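import Mathlib

/-!
Scheme-theoretic intersections are pullbacks and unions are pushouts.
-/

set_option autoImplicit false
set_option linter.style.haveILetI false
set_option backward.isDefEq.respectTransparency false
set_option backward.isDefEq.respectTransparency.types false
universe u
open CategoryTheory CategoryTheory.Limits AlgebraicGeometry TopologicalSpace

namespace UnionPush13

open Scheme.IdealSheafData

variable {S : Scheme.{u}} (I J : S.IdealSheafData)

theorem isPullback_sup :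
    IsPullback (inclusion (le_sup_left : I ≤ I ⊔ J)) (inclusion (le_sup_right : J ≤ I ⊔ J))
      I.subschemeι J.subschemeι := by
  refine ⟨⟨by rw [inclusion_subschemeι, inclusion_subschemeι]⟩, ⟨PullbackCone.IsLimit.mk _
    (fun s => IsClosedImmersion.lift (I ⊔ J).subschemeι (s.fst ≫ I.subschemeι) ?_) (fun s => ?_)
    (fun s => ?_) (fun s m h1 h2 => ?_)⟩⟩
  · rw [ker_subschemeι]
    refine sup_le ?_ ?_
    · exact (I.ker_subschemeι).ge.trans (s.fst.le_ker_comp I.subschemeι)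
    · rw [s.condition]
      exact (J.ker_subschemeι).ge.trans (s.snd.le_ker_comp J.subschemeι)
  · rw [← cancel_mono I.subschemeι, Category.assoc, inclusion_subschemeι, IsClosedImmersion.lift_fac]
  · rw [← cancel_mono J.subschemeι, Category.assoc, inclusion_subschemeι, IsClosedImmersion.lift_fac,
      s.condition]
  · rw [← cancel_mono (I ⊔ J).subschemeι, IsClosedImmersion.lift_fac, ← h1, Category.assoc,
      inclusion_subschemeι]

/-- The first closed subscheme inside the union. -/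
noncomputable abbrev inl : I.subscheme ⟶ (I ⊓ J).subscheme := inclusion inf_le_left

/-- The second closed subscheme inside the union. -/
noncomputable abbrev inr : J.subscheme ⟶ (I ⊓ J).subscheme := inclusion inf_le_right

theorem mem_support_inf (x : S) : x ∈ (I ⊓ J).support ↔ x ∈ I.support ∨ x ∈ J.support := by
  obtain ⟨_, ⟨U : S.Opens, hU, rfl⟩, hxU, -⟩ :=
    S.isBasis_affineOpens.exists_subset_of_mem_open (Set.mem_univ x) isOpen_univ
  rw [mem_support_iff_of_mem (U := ⟨U, hU⟩) hxU, mem_support_iff_of_mem (U := ⟨U, hU⟩) hxU,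
    mem_support_iff_of_mem (U := ⟨U, hU⟩) hxU]
  rw [Scheme.IdealSheafData.ideal_inf, Pi.inf_apply, Scheme.zeroLocus_inf]
  rfl

theorem inl_apply (a : I.subscheme) :
    (I ⊓ J).subschemeι (inl I J a) = I.subschemeι a := by
  rw [← Scheme.Hom.comp_apply, inclusion_subschemeι]

theorem inr_apply (a : J.subscheme) :
    (I ⊓ J).subschemeι (inr I J a) = J.subschemeι a := by
  rw [← Scheme.Hom.comp_apply, inclusion_subschemeι]

theorem exists_preimage (p : (I ⊓ J).subscheme) :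
    (∃ a, inl I J a = p) ∨ (∃ b, inr I J b = p) := by
  have hinj := (I ⊓ J).subschemeι.isEmbedding.injective
  have hp : (I ⊓ J).subschemeι p ∈ (I ⊓ J).support := by
    rw [← SetLike.mem_coe, ← range_subschemeι]; exact ⟨p, rfl⟩
  rcases (mem_support_inf I J _).mp hp with h | h
  · obtain ⟨a, ha⟩ : (I ⊓ J).subschemeι p ∈ Set.range I.subschemeι := I.range_subschemeι.symm ▸ h
    exact Or.inl ⟨a, hinj ((inl_apply I J a).trans ha)⟩
  · obtain ⟨b, hb⟩ : (I ⊓ J).subschemeι p ∈ Set.range J.subschemeι := J.range_subschemeι.symm ▸ h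
    exact Or.inr ⟨b, hinj ((inr_apply I J b).trans hb)⟩

section affine

variable {I J} {U : S.Opens}

theorem surjective_appLE (K : S.IdealSheafData) (hU : IsAffineOpen U) :
    Function.Surjective (K.subschemeι.appLE U (K.subschemeι ⁻¹ᵁ U) le_rfl) := by
  rw [← Scheme.Hom.app_eq_appLE]
  exact K.subschemeι_app_surjective ⟨U, hU⟩

theorem appLE_eq_zero_iff (K : S.IdealSheafData) (hU : IsAffineOpen U) (z : Γ(S, U)) :
    K.subschemeι.appLE U (K.subschemeι ⁻¹ᵁ U) le_rfl z = 0 ↔ z ∈ K.ideal ⟨U, hU⟩ := by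
  rw [← Scheme.Hom.app_eq_appLE, ← RingHom.mem_ker, K.ker_subschemeι_app ⟨U, hU⟩]

theorem le_inclusion {K L : S.IdealSheafData} (h : K ≤ L) :
    L.subschemeι ⁻¹ᵁ U ≤ inclusion h ⁻¹ᵁ (K.subschemeι ⁻¹ᵁ U) := by
  rw [← Scheme.Hom.comp_preimage, inclusion_subschemeι]

theorem inclusion_appLE {K L : S.IdealSheafData} (h : K ≤ L) (z : Γ(S, U)) :
    (inclusion h).appLE (K.subschemeι ⁻¹ᵁ U) (L.subschemeι ⁻¹ᵁ U) (le_inclusion h)
        (K.subschemeι.appLE U (K.subschemeι ⁻¹ᵁ U) le_rfl z) =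
      L.subschemeι.appLE U (L.subschemeι ⁻¹ᵁ U) le_rfl z := by
  rw [← CategoryTheory.comp_apply, Scheme.Hom.appLE_comp_appLE]
  simp only [inclusion_subschemeι]

theorem pair_injective (hU : IsAffineOpen U)
    (w w' : Γ((I ⊓ J).subscheme, (I ⊓ J).subschemeι ⁻¹ᵁ U))
    (h₁ : (inl I J).appLE _ (I.subschemeι ⁻¹ᵁ U) (le_inclusion _) w =
      (inl I J).appLE _ (I.subschemeι ⁻¹ᵁ U) (le_inclusion _) w')
    (h₂ : (inr I J).appLE _ (J.subschemeι ⁻¹ᵁ U) (le_inclusion _) w =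
      (inr I J).appLE _ (J.subschemeι ⁻¹ᵁ U) (le_inclusion _) w') : w = w' := by
  obtain ⟨z, rfl⟩ := surjective_appLE (I ⊓ J) hU w
  obtain ⟨z', rfl⟩ := surjective_appLE (I ⊓ J) hU w'
  simp only [inl, inr, inclusion_appLE] at h₁ h₂
  rw [← sub_eq_zero, ← map_sub, appLE_eq_zero_iff _ hU] at h₁ h₂ ⊢
  exact ⟨h₁, h₂⟩

end affine

variable {T : Scheme.{u}}

/-- The description of a morphism on an open through an affine target. -/
theorem ι_comp_eq {X : Scheme.{u}} (a : X ⟶ T) {V : T.Opens} (hV : IsAffineOpen V) (A : X.Opens)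
    (h : A ≤ a ⁻¹ᵁ V) : A.ι ≫ a = A.toSpecΓ ≫ Spec.map (a.appLE V A h) ≫ hV.fromSpec := by
  rw [Scheme.Opens.toSpecΓ_SpecMap_appLE_assoc, hV.toSpecΓ_fromSpec, Scheme.Hom.resLE_comp_ι]

theorem resLE_toSpec {X : Scheme.{u}} {P : Scheme.{u}} (i : X ⟶ P) {W : P.Opens} {A : X.Opens}
    (h : A ≤ i ⁻¹ᵁ W) {V : T.Opens} (hV : IsAffineOpen V) (ψ : Γ(T, V) ⟶ Γ(P, W)) :
    i.resLE W A h ≫ W.toSpecΓ ≫ Spec.map ψ ≫ hV.fromSpec =
      A.toSpecΓ ≫ Spec.map (ψ ≫ i.appLE W A h) ≫ hV.fromSpec := by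
  rw [← Scheme.Opens.toSpecΓ_SpecMap_appLE_assoc, Spec.map_comp, Category.assoc]

set_option maxHeartbeats 800000 in
/-- Morphisms out of an open of the union are determined by their restrictions. -/
theorem ext_of_restrict (O : (I ⊓ J).subscheme.Opens) (g g' : (O : Scheme.{u}) ⟶ T)
    (h₁ : ∀ (A : I.subscheme.Opens) (hA : A ≤ inl I J ⁻¹ᵁ O),
      (inl I J).resLE O A hA ≫ g = (inl I J).resLE O A hA ≫ g')
    (h₂ : ∀ (B : J.subscheme.Opens) (hB : B ≤ inr I J ⁻¹ᵁ O),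
      (inr I J).resLE O B hB ≫ g = (inr I J).resLE O B hB ≫ g') : g = g' := by
  classical
  have hpt : ∀ p : O, g p = g' p := by
    intro p
    rcases exists_preimage I J p.1 with ⟨a, ha⟩ | ⟨b, hb⟩
    · have hmem : a ∈ inl I J ⁻¹ᵁ O := show inl I J a ∈ O by rw [ha]; exact p.2
      have hq : (inl I J).resLE O _ le_rfl ⟨a, hmem⟩ = p := Subtype.ext (by
        show O.ι ((inl I J).resLE O _ le_rfl ⟨a, hmem⟩) = p.1
        rw [← Scheme.Hom.comp_apply, Scheme.Hom.resLE_comp_ι]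
        exact ha)
      rw [← hq, ← Scheme.Hom.comp_apply, ← Scheme.Hom.comp_apply, h₁ _ le_rfl]
    · have hmem : b ∈ inr I J ⁻¹ᵁ O := show inr I J b ∈ O by rw [hb]; exact p.2
      have hq : (inr I J).resLE O _ le_rfl ⟨b, hmem⟩ = p := Subtype.ext (by
        show O.ι ((inr I J).resLE O _ le_rfl ⟨b, hmem⟩) = p.1
        rw [← Scheme.Hom.comp_apply, Scheme.Hom.resLE_comp_ι]
        exact hb)
      rw [← hq, ← Scheme.Hom.comp_apply, ← Scheme.Hom.comp_apply, h₂ _ le_rfl]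
  refine Scheme.hom_ext_of_forall g g' fun p => ?_
  obtain ⟨_, ⟨V : T.Opens, hV, rfl⟩, hpV, -⟩ :=
    T.isBasis_affineOpens.exists_subset_of_mem_open (Set.mem_univ (g p)) isOpen_univ
  let O' : (I ⊓ J).subscheme.Opens := O.ι ''ᵁ (g ⁻¹ᵁ V)
  obtain ⟨Us, hUso, hUs⟩ := ((I ⊓ J).subschemeι.isEmbedding.isInducing.isOpen_iff).mp O'.2
  have hp' : (I ⊓ J).subschemeι p.1 ∈ Us := by
    have : (p.1 : (I ⊓ J).subscheme) ∈ (I ⊓ J).subschemeι ⁻¹' Us := hUs ▸ (⟨p, hpV, rfl⟩ : p.1 ∈ O'.1)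
    exact this
  obtain ⟨_, ⟨U : S.Opens, hU, rfl⟩, hpU, hUle⟩ :=
    S.isBasis_affineOpens.exists_subset_of_mem_open hp' hUso
  let W : (I ⊓ J).subscheme.Opens := (I ⊓ J).subschemeι ⁻¹ᵁ U
  have hWO' : W ≤ O' := fun q hq => by
    have : q ∈ (I ⊓ J).subschemeι ⁻¹' Us := hUle hq
    rw [hUs] at this
    exact this
  have hWO : W ≤ O := hWO'.trans (O.ι_image_le _)
  have hWaff : IsAffineOpen W := hU.preimage _
  refine ⟨O.ι ⁻¹ᵁ W, hpU, ?_⟩
  haveI : IsAffine (W : Scheme.{u}) := hWaff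
  let k := (I ⊓ J).subscheme.homOfLE hWO
  suffices hk : k ≫ g = k ≫ g' by
    have e : (O.ι ⁻¹ᵁ W).ι = (O.ι.isoImage _ ≪≫ (I ⊓ J).subscheme.isoOfEq
        (by rw [Scheme.Hom.image_preimage_eq_opensRange_inf, Scheme.Opens.opensRange_ι,
          inf_eq_right.mpr hWO])).hom ≫ k := by
      rw [← cancel_mono O.ι]
      simp [k]
    rw [e, Category.assoc, Category.assoc, hk]
  have hrange : ∀ (h : (O : Scheme.{u}) ⟶ T), (∀ q : O, h q = g q) →
      ∃ ψ : Γ(T, V) ⟶ Γ((I ⊓ J).subscheme, W), k ≫ h = W.toSpecΓ ≫ Spec.map ψ ≫ hV.fromSpec := by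
    intro h hh
    have hsub : Set.range (k ≫ h) ⊆ Set.range V.ι := by
      rw [Scheme.Opens.range_ι]
      rintro _ ⟨q, rfl⟩
      rw [Scheme.Hom.comp_apply, hh]
      obtain ⟨q', hq', hq''⟩ := hWO' q.2
      have : k q = q' := Subtype.ext (by
        show O.ι (k q) = O.ι q'
        rw [← Scheme.Hom.comp_apply, Scheme.homOfLE_ι]
        exact hq''.symm)
      rw [this]
      exact hq'
    refine ⟨Spec.preimage (hWaff.isoSpec.inv ≫ IsOpenImmersion.lift V.ι (k ≫ h) hsub ≫ hV.isoSpec.hom),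
      ?_⟩
    rw [Spec.map_preimage]
    simp only [Category.assoc]
    rw [← hWaff.isoSpec_hom, Iso.hom_inv_id_assoc, IsAffineOpen.isoSpec_hom, hV.toSpecΓ_fromSpec,
      IsOpenImmersion.lift_fac]
  obtain ⟨ψ, hψ⟩ := hrange g fun _ => rfl
  obtain ⟨ψ', hψ'⟩ := hrange g' fun q => (hpt q).symm
  rw [hψ, hψ']
  suffices ψ = ψ' by rw [this]
  have key : ∀ {X : Scheme.{u}} (i : X ⟶ (I ⊓ J).subscheme) {A : X.Opens} (hA : A ≤ i ⁻¹ᵁ W),
      IsAffineOpen A → i.resLE W A hA ≫ k ≫ g = i.resLE W A hA ≫ k ≫ g' →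
      ψ ≫ i.appLE W A hA = ψ' ≫ i.appLE W A hA := by
    intro X i A hA hAaff he
    rw [hψ, hψ', resLE_toSpec, resLE_toSpec, ← hAaff.isoSpec_hom, cancel_epi, cancel_mono] at he
    exact Spec.map_injective he
  refine CommRingCat.hom_ext (RingHom.ext fun r => pair_injective hU _ _ ?_ ?_)
  · have hA : I.subschemeι ⁻¹ᵁ U ≤ inl I J ⁻¹ᵁ W := le_inclusion inf_le_left
    have h := key (inl I J) hA (hU.preimage _) (by
      rw [Scheme.Hom.resLE_map_assoc, Scheme.Hom.resLE_map_assoc]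
      exact h₁ _ _)
    simpa only [CategoryTheory.comp_apply] using ConcreteCategory.congr_hom h r
  · have hA : J.subschemeι ⁻¹ᵁ U ≤ inr I J ⁻¹ᵁ W := le_inclusion inf_le_right
    have h := key (inr I J) hA (hU.preimage _) (by
      rw [Scheme.Hom.resLE_map_assoc, Scheme.Hom.resLE_map_assoc]
      exact h₂ _ _)
    simpa only [CategoryTheory.comp_apply] using ConcreteCategory.congr_hom h r

set_option maxHeartbeats 800000 in
theorem exists_desc (a : I.subscheme ⟶ T) (b : J.subscheme ⟶ T)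
    (hab : inclusion (le_sup_left : I ≤ I ⊔ J) ≫ a = inclusion (le_sup_right : J ≤ I ⊔ J) ≫ b) :
    ∃ g : (I ⊓ J).subscheme ⟶ T, inl I J ≫ g = a ∧ inr I J ≫ g = b := by
  classical
  let P := (I ⊓ J).subscheme
  have himg : ∀ p : P, ∃ y : T, (∀ u, inl I J u = p → a u = y) ∧ ∀ v, inr I J v = p → b v = y := by
    intro p
    have hinjl : Function.Injective (inl I J) := (inl I J).isEmbedding.injective
    have hinjr : Function.Injective (inr I J) := (inr I J).isEmbedding.injective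
    have hagree : ∀ u v, inl I J u = inr I J v → a u = b v := by
      intro u v h
      have h' : I.subschemeι u = J.subschemeι v := by rw [← inl_apply, h, inr_apply]
      have hu : I.subschemeι u ∈ (I ⊔ J).support := by
        rw [Scheme.IdealSheafData.support_sup]
        exact ⟨I.range_subschemeι ▸ (⟨u, rfl⟩ : _ ∈ Set.range I.subschemeι),
          J.range_subschemeι ▸ (⟨v, h'.symm⟩ : _ ∈ Set.range J.subschemeι)⟩
      obtain ⟨w, hw⟩ : I.subschemeι u ∈ Set.range (I ⊔ J).subschemeι :=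
        (I ⊔ J).range_subschemeι.symm ▸ hu
      have h1 : inclusion (le_sup_left : I ≤ I ⊔ J) w = u := I.subschemeι.isEmbedding.injective (by
        rw [← Scheme.Hom.comp_apply, inclusion_subschemeι, hw])
      have h2 : inclusion (le_sup_right : J ≤ I ⊔ J) w = v := J.subschemeι.isEmbedding.injective (by
        rw [← Scheme.Hom.comp_apply, inclusion_subschemeι, hw, h'])
      rw [← h1, ← h2, ← Scheme.Hom.comp_apply, hab, Scheme.Hom.comp_apply]
    by_cases hl : ∃ u, inl I J u = p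
    · obtain ⟨u, rfl⟩ := hl
      exact ⟨a u, fun u' h => by rw [hinjl h], fun v h => (hagree u v h.symm).symm⟩
    · obtain ⟨v, rfl⟩ := (exists_preimage I J p).resolve_left hl
      exact ⟨b v, fun u h => absurd ⟨u, h⟩ hl, fun v' h => by rw [hinjr h]⟩
  have hloc : ∀ p : P, ∃ (U : S.Opens) (V : T.Opens), IsAffineOpen U ∧ IsAffineOpen V ∧
      (I ⊓ J).subschemeι p ∈ U ∧ I.subschemeι ⁻¹ᵁ U ≤ a ⁻¹ᵁ V ∧ J.subschemeι ⁻¹ᵁ U ≤ b ⁻¹ᵁ V := by
    intro p
    obtain ⟨y, hy₁, hy₂⟩ := himg p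
    obtain ⟨_, ⟨V : T.Opens, hV, rfl⟩, hyV, -⟩ :=
      T.isBasis_affineOpens.exists_subset_of_mem_open (Set.mem_univ y) isOpen_univ
    have hC : IsClosed (I.subschemeι '' (a ⁻¹ᵁ V : Set I.subscheme)ᶜ ∪
        J.subschemeι '' (b ⁻¹ᵁ V : Set J.subscheme)ᶜ) :=
      (I.subschemeι.isClosedEmbedding.isClosedMap _ (a ⁻¹ᵁ V).2.isClosed_compl).union
        (J.subschemeι.isClosedEmbedding.isClosedMap _ (b ⁻¹ᵁ V).2.isClosed_compl)
    have hp : (I ⊓ J).subschemeι p ∉ (I.subschemeι '' (a ⁻¹ᵁ V : Set I.subscheme)ᶜ ∪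
        J.subschemeι '' (b ⁻¹ᵁ V : Set J.subscheme)ᶜ) := by
      rintro (⟨u, hu, he⟩ | ⟨v, hv, he⟩)
      · rw [← inl_apply I J u] at he
        exact hu (show a u ∈ V by rw [hy₁ u ((I ⊓ J).subschemeι.isEmbedding.injective he)]; exact hyV)
      · rw [← inr_apply I J v] at he
        exact hv (show b v ∈ V by rw [hy₂ v ((I ⊓ J).subschemeι.isEmbedding.injective he)]; exact hyV)
    obtain ⟨_, ⟨U : S.Opens, hU, rfl⟩, hpU, hUle⟩ :=
      S.isBasis_affineOpens.exists_subset_of_mem_open hp hC.isOpen_compl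
    exact ⟨U, V, hU, hV, hpU, fun u hu => by_contra fun h => hUle hu (Or.inl ⟨u, h, rfl⟩),
      fun v hv => by_contra fun h => hUle hv (Or.inr ⟨v, h, rfl⟩)⟩
  choose U V hU hV hpU haU hbU using hloc
  have hψ : ∀ p, ∃ ψ : Γ(T, V p) ⟶ Γ(P, (I ⊓ J).subschemeι ⁻¹ᵁ U p),
      ψ ≫ (inl I J).appLE _ (I.subschemeι ⁻¹ᵁ U p) (le_inclusion _) = a.appLE _ _ (haU p) ∧
      ψ ≫ (inr I J).appLE _ (J.subschemeι ⁻¹ᵁ U p) (le_inclusion _) = b.appLE _ _ (hbU p) := by
    intro p
    have hex : ∀ r : Γ(T, V p), ∃ w : Γ(P, (I ⊓ J).subschemeι ⁻¹ᵁ U p),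
        (inl I J).appLE _ (I.subschemeι ⁻¹ᵁ U p) (le_inclusion _) w = a.appLE _ _ (haU p) r ∧
        (inr I J).appLE _ (J.subschemeι ⁻¹ᵁ U p) (le_inclusion _) w = b.appLE _ _ (hbU p) r := by
      intro r
      obtain ⟨x, hx⟩ := surjective_appLE I (hU p) (a.appLE _ _ (haU p) r)
      obtain ⟨y, hy⟩ := surjective_appLE J (hU p) (b.appLE _ _ (hbU p) r)
      have hxy : x - y ∈ (I ⊔ J).ideal ⟨U p, hU p⟩ := by
        rw [← appLE_eq_zero_iff, map_sub, sub_eq_zero,
          ← inclusion_appLE (le_sup_left : I ≤ I ⊔ J) x, hx,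
          ← inclusion_appLE (le_sup_right : J ≤ I ⊔ J) y, hy, ← CategoryTheory.comp_apply,
          ← CategoryTheory.comp_apply, Scheme.Hom.appLE_comp_appLE, Scheme.Hom.appLE_comp_appLE]
        simp only [hab]
      rw [Scheme.IdealSheafData.ideal_sup, Pi.sup_apply] at hxy
      obtain ⟨i, hi, j, hj, hij⟩ := Submodule.mem_sup.mp hxy
      refine ⟨(I ⊓ J).subschemeι.appLE (U p) _ le_rfl (x - i), ?_, ?_⟩
      · simp only [inl]
        rw [inclusion_appLE, map_sub, (appLE_eq_zero_iff I (hU p) i).mpr hi, sub_zero, hx]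
      · simp only [inr]
        rw [inclusion_appLE, show x - i = y + j by linear_combination -hij, map_add,
          (appLE_eq_zero_iff J (hU p) j).mpr hj, add_zero, hy]
    choose w hw₁ hw₂ using hex
    refine ⟨CommRingCat.ofHom
      { toFun := w
        map_one' := pair_injective (hU p) _ _ (by rw [hw₁, map_one, map_one]) (by rw [hw₂, map_one, map_one])
        map_zero' := pair_injective (hU p) _ _ (by rw [hw₁, map_zero, map_zero]) (by rw [hw₂, map_zero, map_zero])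
        map_mul' := fun r r' => pair_injective (hU p) _ _ (by simp only [map_mul, hw₁]) (by simp only [map_mul, hw₂])
        map_add' := fun r r' => pair_injective (hU p) _ _ (by simp only [map_add, hw₁]) (by simp only [map_add, hw₂]) },
      ?_, ?_⟩
    · ext r; exact hw₁ r
    · ext r; exact hw₂ r
  choose ψ hψ₁ hψ₂ using hψ
  let W : P → P.Opens := fun p => (I ⊓ J).subschemeι ⁻¹ᵁ U p
  let G : ∀ p : P, (W p : Scheme.{u}) ⟶ T := fun p => (W p).toSpecΓ ≫ Spec.map (ψ p) ≫ (hV p).fromSpec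
  have hG₁ : ∀ p (A : I.subscheme.Opens) (hA : A ≤ inl I J ⁻¹ᵁ W p),
      (inl I J).resLE (W p) A hA ≫ G p = A.ι ≫ a := by
    intro p A hA
    have hA' : A ≤ I.subschemeι ⁻¹ᵁ U p := fun z hz => by
      have h : (I ⊓ J).subschemeι (inl I J z) ∈ U p := hA hz
      rw [inl_apply] at h
      exact h
    simp only [G]
    rw [resLE_toSpec, ι_comp_eq a (hV p) A (hA'.trans (haU p))]
    have e := congrArg (· ≫ I.subscheme.presheaf.map (homOfLE hA').op) (hψ₁ p)
    simp only [Category.assoc, Scheme.Hom.appLE_map] at e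
    rw [e]
  have hG₂ : ∀ p (B : J.subscheme.Opens) (hB : B ≤ inr I J ⁻¹ᵁ W p),
      (inr I J).resLE (W p) B hB ≫ G p = B.ι ≫ b := by
    intro p B hB
    have hB' : B ≤ J.subschemeι ⁻¹ᵁ U p := fun z hz => by
      have h : (I ⊓ J).subschemeι (inr I J z) ∈ U p := hB hz
      rw [inr_apply] at h
      exact h
    simp only [G]
    rw [resLE_toSpec, ι_comp_eq b (hV p) B (hB'.trans (hbU p))]
    have e := congrArg (· ≫ J.subscheme.presheaf.map (homOfLE hB').op) (hψ₂ p)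
    simp only [Category.assoc, Scheme.Hom.appLE_map] at e
    rw [e]
  let 𝒰 : P.OpenCover := P.openCoverOfIsOpenCover W
    (eq_top_iff.mpr fun p _ => Opens.mem_iSup.mpr ⟨p, hpU p⟩)
  have hcompat : ∀ p q, pullback.fst (W p).ι (W q).ι ≫ G p = pullback.snd (W p).ι (W q).ι ≫ G q := by
    intro p q
    let e := (isPullback_opens_inf (W p) (W q)).isoPullback
    rw [← cancel_epi e.hom, IsPullback.isoPullback_hom_fst_assoc, IsPullback.isoPullback_hom_snd_assoc]
    refine ext_of_restrict I J (W p ⊓ W q) _ _ (fun A hA => ?_) (fun B hB => ?_)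
    · rw [Scheme.Hom.resLE_map_assoc, Scheme.Hom.resLE_map_assoc, hG₁, hG₁]
    · rw [Scheme.Hom.resLE_map_assoc, Scheme.Hom.resLE_map_assoc, hG₂, hG₂]
  refine ⟨𝒰.glueMorphisms G hcompat, ?_, ?_⟩
  · refine Scheme.hom_ext_of_forall _ _ fun u => ⟨inl I J ⁻¹ᵁ W (inl I J u), hpU _, ?_⟩
    rw [← Category.assoc, ← Scheme.Hom.resLE_comp_ι (inl I J) le_rfl, Category.assoc]
    exact (congrArg (_ ≫ ·) (𝒰.ι_glueMorphisms G hcompat (inl I J u))).trans (hG₁ _ _ le_rfl)
  · refine Scheme.hom_ext_of_forall _ _ fun v => ⟨inr I J ⁻¹ᵁ W (inr I J v), hpU _, ?_⟩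
    rw [← Category.assoc, ← Scheme.Hom.resLE_comp_ι (inr I J) le_rfl, Category.assoc]
    exact (congrArg (_ ≫ ·) (𝒰.ι_glueMorphisms G hcompat (inr I J v))).trans (hG₂ _ _ le_rfl)

theorem isPushout_inf :
    IsPushout (inclusion (le_sup_left : I ≤ I ⊔ J)) (inclusion (le_sup_right : J ≤ I ⊔ J))
      (inl I J) (inr I J) := by
  refine ⟨⟨by rw [inclusion_comp, inclusion_comp]⟩, ⟨PushoutCocone.IsColimit.mk _
    (fun s => (exists_desc I J s.inl s.inr s.condition).choose)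
    (fun s => (exists_desc I J s.inl s.inr s.condition).choose_spec.1)
    (fun s => (exists_desc I J s.inl s.inr s.condition).choose_spec.2) (fun s m h1 h2 => ?_)⟩⟩
  obtain ⟨hg₁, hg₂⟩ := (exists_desc I J s.inl s.inr s.condition).choose_spec
  set g := (exists_desc I J s.inl s.inr s.condition).choose
  have h := ext_of_restrict I J (⊤ : (I ⊓ J).subscheme.Opens)
    ((⊤ : (I ⊓ J).subscheme.Opens).ι ≫ m) ((⊤ : (I ⊓ J).subscheme.Opens).ι ≫ g)
    (fun A hA => by rw [Scheme.Hom.resLE_comp_ι_assoc, Scheme.Hom.resLE_comp_ι_assoc, h1, hg₁])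
    (fun B hB => by rw [Scheme.Hom.resLE_comp_ι_assoc, Scheme.Hom.resLE_comp_ι_assoc, h2, hg₂])
  rwa [← (I ⊓ J).subscheme.topIso_hom, cancel_epi] at h

end UnionPush13
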